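import Cfsg.Agent.H411.PrA.Basic
import Cfsg.Agent.H976.PrA.ExistsS

/-!
# S3618, case A, section 5 (helper273): there are no bad points
-/

set_option autoImplicit false

open Equiv Equiv.Perm MulAction Cfsg.Agent.H411.PrA
open Cfsg.Agent.H273.FC (inv_self' self_inv')

namespace Cfsg.Agent.H273.PrA

universe u

/-! ## general lemmas -/

section gen

variable {G Q : Type*} [Group G] [Group Q] {p : ℕ}

/-- lifting elements of order `p` -/
theorem exists_lift [Finite G] (hp : p.Prime) (h2 : ¬ p ^ 2 ∣ Nat.card G) (f : G →* Q) (y : G)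
    (hy : orderOf (f y) = p) : ∃ n : ℕ, orderOf (y ^ n) = p ∧ f (y ^ n) = f y := by
  have h1 : p ∣ orderOf y := hy ▸ orderOf_map_dvd f y
  obtain ⟨k, hk⟩ := h1
  have hkp : ¬ p ∣ k := by
    rintro ⟨l, rfl⟩
    apply h2
    refine dvd_trans ⟨l, ?_⟩ (orderOf_dvd_natCard y)
    rw [hk]; ring
  have hk0 : k ≠ 0 := by
    rintro rfl
    exact hkp (dvd_zero p)
  have hco : Nat.Coprime k p := ((Nat.Prime.coprime_iff_not_dvd hp).2 hkp).symm
  obtain ⟨t, -, ht⟩ := Nat.exists_mul_mod_eq_one_of_coprime hco hp.one_lt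
  have hkt : Nat.ModEq p (k * t) 1 := by
    unfold Nat.ModEq
    rw [ht, Nat.mod_eq_of_lt hp.one_lt]
  have htp : Nat.Coprime p t := by
    rw [Nat.Prime.coprime_iff_not_dvd hp]
    intro hd
    have h3 : p ∣ k * t := hd.mul_left k
    have h4 := (Nat.modEq_zero_iff_dvd.2 h3).symm.trans hkt
    have h5 : p ∣ 1 := Nat.modEq_zero_iff_dvd.1 h4.symm
    exact hp.one_lt.ne' (Nat.dvd_one.1 h5)
  refine ⟨k * t, ?_, ?_⟩
  · have h3 : orderOf (y ^ k) = p := by
      rw [orderOf_pow_of_dvd hk0 ⟨p, by rw [hk]; ring⟩, hk, Nat.mul_div_cancel _ (Nat.pos_of_ne_zero hk0)]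
    rw [pow_mul, Nat.Coprime.orderOf_pow (by rw [h3]; exact htp), h3]
  · rw [map_pow]
    have h3 : f y ^ (k * t) = f y ^ 1 := by
      rw [pow_eq_pow_iff_modEq, hy]
      exact hkt
    rw [h3, pow_one]

/-- a normal `p'`-subgroup lies in the kernel of a homomorphism with simple image of order divisible by `p` -/
theorem le_ker [Finite G] (f : G →* Q) (hs : IsSimpleGroup f.range) (hd : p ∣ Nat.card f.range) (N : Subgroup G)
    (hn : N.Normal) (hN : ¬ p ∣ Nat.card N) : N ≤ f.ker := by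
  have h1 : (N.map f.rangeRestrict).Normal := hn.map _ f.rangeRestrict_surjective
  rcases h1.eq_bot_or_eq_top with h2 | h2
  · intro x hx
    have h3 : f.rangeRestrict x ∈ N.map f.rangeRestrict := ⟨x, hx, rfl⟩
    rw [h2, Subgroup.mem_bot] at h3
    exact congrArg Subtype.val h3
  · exfalso
    apply hN
    have h3 : Nat.card (N.map f.rangeRestrict) ∣ Nat.card N := Subgroup.card_map_dvd _ _
    rw [h2, Subgroup.card_top] at h3
    exact hd.trans h3

end gen

/-! ## the groups generated by the elements of order `p` with support disjoint from a set -/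

section alt

variable {m p : ℕ}

/-- generated by the elements of order `p` with support disjoint from `T` -/
def A (m p : ℕ) (T : Finset (Fin m)) : Subgroup (Perm (Fin m)) :=
  Subgroup.closure {σ | orderOf σ = p ∧ Disjoint σ.support T}

theorem A_anti {T T' : Finset (Fin m)} (h : T ⊆ T') : A m p T' ≤ A m p T :=
  Subgroup.closure_mono fun _ hσ => ⟨hσ.1, hσ.2.mono_right h⟩

theorem sign_of_order (hp : p.Prime) (hp2 : p ≠ 2) {X : Type*} [Fintype X] [DecidableEq X] {σ : Perm X}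
    (h : orderOf σ = p) : sign σ = 1 := by
  have h1 : sign σ ^ p = 1 := by rw [← map_pow, ← h, pow_orderOf_eq_one, map_one]
  rcases Int.units_eq_one_or (sign σ) with h2 | h2
  · exact h2
  · exfalso
    rw [h2] at h1
    obtain ⟨k, hk⟩ := hp.odd_of_ne_two hp2
    rw [hk, pow_succ, pow_mul] at h1
    norm_num at h1

/-- the embedding -/
def emb (T : Finset (Fin m)) : alternatingGroup {x // x ∉ T} →* Perm (Fin m) :=
  (Perm.ofSubtype (p := fun x => x ∉ T)).comp (alternatingGroup {x // x ∉ T}).subtype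

theorem emb_injective (T : Finset (Fin m)) : Function.Injective (emb T) :=
  (Perm.ofSubtype_injective).comp Subtype.val_injective

theorem emb_fix (T : Finset (Fin m)) (g : alternatingGroup {x // x ∉ T}) {i : Fin m} (hi : i ∈ T) : emb T g i = i :=
  Perm.ofSubtype_apply_of_not_mem (p := fun x => x ∉ T) (g : Perm {x // x ∉ T}) (by simpa using hi)

theorem card_compl (T : Finset (Fin m)) : Nat.card {x // x ∉ T} = m - T.card := by
  rw [Nat.card_eq_fintype_card, Fintype.card_subtype_compl, Fintype.card_fin, Fintype.card_coe]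

theorem conj_A (T : Finset (Fin m)) {τ σ : Perm (Fin m)} (hτ : ∀ i ∈ T, τ i = i) (hσ : σ ∈ A m p T) :
    τ * σ * τ⁻¹ ∈ A m p T := by
  have h1 : A m p T ≤ (A m p T).comap (MulAut.conj τ).toMonoidHom := by
    refine (Subgroup.closure_le _).2 ?_
    rintro y ⟨hy, hyT⟩
    refine Subgroup.subset_closure ⟨?_, ?_⟩
    · rw [← hy]
      exact (MulAut.conj τ).orderOf_eq y
    · rw [Finset.disjoint_left] at hyT ⊢
      intro i hi hiT
      have h2 : τ⁻¹ i = i := by rw [Perm.inv_eq_iff_eq, hτ i hiT]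
      apply hyT _ hiT
      rw [Perm.mem_support] at hi ⊢
      intro h3
      apply hi
      show τ (y (τ⁻¹ i)) = i
      rw [h2, h3, hτ i hiT]
  exact h1 hσ

theorem A_eq (hp : p.Prime) (hp2 : p ≠ 2) {T : Finset (Fin m)} (hT : p + T.card ≤ m)
    (h5 : 5 + T.card ≤ m) : A m p T = (emb T).range := by
  have hc : Nat.card {x // x ∉ T} = m - T.card := card_compl T
  have hs : IsSimpleGroup (alternatingGroup {x // x ∉ T}) := alternatingGroup.isSimpleGroup (by rw [hc]; omega)
  have hnt : Nontrivial {x // x ∉ T} := by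
    rw [← Finite.one_lt_card_iff_nontrivial, hc]; omega
  apply le_antisymm
  · refine (Subgroup.closure_le _).2 ?_
    rintro σ ⟨hσ, hσT⟩
    rw [Finset.disjoint_left] at hσT
    have h1 : ∀ i ∈ T, σ i = i := fun i hi => by
      by_contra h
      exact hσT (Perm.mem_support.2 h) hi
    have h2 : ∀ x, σ x ∉ T ↔ x ∉ T := by
      intro x
      constructor
      · intro hx hxT
        exact hx (by rw [h1 x hxT]; exact hxT)
      · intro hx hxT
        apply hx
        have h3 := h1 _ hxT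
        have h4 := σ.injective h3
        rw [← h4]; exact hxT
    set τ : Perm {x // x ∉ T} := σ.subtypePerm h2 with hτ
    have h3 : Perm.ofSubtype τ = σ := Perm.ofSubtype_subtypePerm h2 (fun x hx hxT => hx (h1 x hxT))
    have h4 : orderOf τ = p := by
      rw [← hσ, ← h3]
      exact (orderOf_injective (Perm.ofSubtype (p := fun x => x ∉ T)) Perm.ofSubtype_injective τ).symm
    exact ⟨⟨τ, mem_alternatingGroup.2 (sign_of_order hp hp2 h4)⟩, h3⟩
  · -- the preimage is normal and nontrivial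
    set N : Subgroup (alternatingGroup {x // x ∉ T}) := (A m p T).comap (emb T) with hN
    have hNn : N.Normal := by
      refine ⟨fun n hn g => ?_⟩
      show emb T (g * n * g⁻¹) ∈ A m p T
      rw [map_mul, map_mul, map_inv]
      exact conj_A T (fun i hi => emb_fix T g hi) hn
    have hNt : N ≠ ⊥ := by
      intro hbot
      have : Fact p.Prime := ⟨hp⟩
      have hd : p ∣ Nat.card (alternatingGroup {x // x ∉ T}) := by
        have h3 := two_mul_nat_card_alternatingGroup (α := {x // x ∉ T})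
        have h4 : p ∣ 2 * Nat.card (alternatingGroup {x // x ∉ T}) := by
          rw [h3, Nat.card_perm, hc]
          exact Nat.dvd_factorial hp.pos (by omega)
        rcases hp.dvd_mul.1 h4 with h5 | h5
        · exact absurd ((Nat.prime_dvd_prime_iff_eq hp Nat.prime_two).1 h5) hp2
        · exact h5
      obtain ⟨g, hg⟩ := exists_prime_orderOf_dvd_card' (G := alternatingGroup {x // x ∉ T}) p hd
      have h1 : g ∈ N := by
        refine Subgroup.subset_closure ⟨?_, ?_⟩
        · rw [← hg]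
          exact orderOf_injective (emb T) (emb_injective T) g
        · rw [Finset.disjoint_left]
          intro i hi hiT
          exact Perm.mem_support.1 hi (emb_fix T g hiT)
      rw [hbot, Subgroup.mem_bot] at h1
      rw [h1, orderOf_one] at hg
      exact hp.one_lt.ne hg
    have hNtop : N = ⊤ := (hNn.eq_bot_or_eq_top).resolve_left hNt
    rintro _ ⟨g, rfl⟩
    have h1 : g ∈ N := by rw [hNtop]; trivial
    exact h1

theorem A_simple (hp : p.Prime) (hp2 : p ≠ 2) {T : Finset (Fin m)} (hT : p + T.card ≤ m) (h5 : 5 + T.card ≤ m) :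
    IsSimpleGroup (A m p T) := by
  have hs : IsSimpleGroup (alternatingGroup {x // x ∉ T}) :=
    alternatingGroup.isSimpleGroup (by rw [card_compl T]; omega)
  rw [A_eq hp hp2 hT h5]
  exact (MonoidHom.ofInjective (emb_injective T)).symm.isSimpleGroup

theorem card_A (hp : p.Prime) (hp2 : p ≠ 2) {T : Finset (Fin m)} (hT : p + T.card ≤ m) (h5 : 5 + T.card ≤ m) :
    2 * Nat.card (A m p T) = (m - T.card).factorial := by
  have hc : Nat.card {x // x ∉ T} = m - T.card := card_compl T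
  have hnt : Nontrivial {x // x ∉ T} := by
    rw [← Finite.one_lt_card_iff_nontrivial, hc]; omega
  rw [A_eq hp hp2 hT h5, ← Nat.card_congr (MonoidHom.ofInjective (emb_injective T)).toEquiv,
    two_mul_nat_card_alternatingGroup, Nat.card_perm, hc]

theorem dvd_card_A (hp : p.Prime) (hp2 : p ≠ 2) {T : Finset (Fin m)} (hT : p + T.card ≤ m) (h5 : 5 + T.card ≤ m) :
    p ∣ Nat.card (A m p T) := by
  have h1 := card_A hp hp2 hT h5
  have h4 : p ∣ 2 * Nat.card (A m p T) := by
    rw [h1]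
    exact Nat.dvd_factorial hp.pos (by omega)
  rcases hp.dvd_mul.1 h4 with h5 | h5
  · exact absurd ((Nat.prime_dvd_prime_iff_eq hp Nat.prime_two).1 h5) hp2
  · exact h5

theorem A_empty (hp : p.Prime) (hp2 : p ≠ 2) (hm : p ≤ m) (h5 : 5 ≤ m) :
    A m p (∅ : Finset (Fin m)) = alternatingGroup (Fin m) := by
  have hnt : Nontrivial (Fin m) := by
    rw [Fin.nontrivial_iff_two_le]; omega
  refine Subgroup.eq_of_le_of_card_ge ?_ ?_
  · refine (Subgroup.closure_le _).2 ?_
    rintro σ ⟨hσ, -⟩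
    exact mem_alternatingGroup.2 (sign_of_order hp hp2 hσ)
  · have h1 := card_A (m := m) hp hp2 (T := ∅) (by simpa using hm) (by simpa using h5)
    have h2 := two_mul_nat_card_alternatingGroup (α := Fin m)
    rw [Nat.card_perm, Nat.card_eq_fintype_card (α := Fin m), Fintype.card_fin] at h2
    rw [Finset.card_empty, Nat.sub_zero] at h1
    omega

/-- more fixed points, smaller group -/
theorem card_lt (hp : p.Prime) (hp2 : p ≠ 2) (hm : p + 3 ≤ m) (hm8 : 8 ≤ m) {T T' : Finset (Fin m)} (hT : T.card ≤ 2)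
    (hlt : T.card < T'.card) : Nat.card (A m p T') < Nat.card (A m p T) := by
  obtain ⟨T'', h1, h2⟩ := Finset.exists_subset_card_eq (s := T') (n := T.card + 1) hlt
  have h3 : Nat.card (A m p T') ≤ Nat.card (A m p T'') :=
    Nat.card_le_card_of_injective _ (Subgroup.inclusion_injective (A_anti h1))
  have h4 := card_A (m := m) hp hp2 (T := T) (by omega) (by omega)
  have h5 := card_A (m := m) hp hp2 (T := T'') (by omega) (by omega)
  have h6 : (m - T''.card).factorial < (m - T.card).factorial := by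
    rw [h2]
    exact (Nat.factorial_lt (by omega)).2 (by omega)
  omega

end alt

/-! ## images -/

section img

variable {Ω : Type u} {m p : ℕ}

/-- the image of `H` -/
def img {M : Subgroup (Perm Ω)} (φ : M →* alternatingGroup (Fin m)) (H : Subgroup (Perm Ω)) :
    Subgroup (Perm (Fin m)) := (H.subgroupOf M).map ((alternatingGroup (Fin m)).subtype.comp φ)

theorem mem_img {M : Subgroup (Perm Ω)} {φ : M →* alternatingGroup (Fin m)} {H : Subgroup (Perm Ω)}
    {σ : Perm (Fin m)} : σ ∈ img φ H ↔ ∃ x : M, (x : Perm Ω) ∈ H ∧ (φ x : Perm (Fin m)) = σ := by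
  unfold img
  rw [Subgroup.mem_map]
  rfl

/-- the restriction -/
def res {M H : Subgroup (Perm Ω)} (φ : M →* alternatingGroup (Fin m)) (h : H ≤ M) : H →* Perm (Fin m) :=
  ((alternatingGroup (Fin m)).subtype.comp φ).comp (Subgroup.inclusion h)

theorem range_res {M H : Subgroup (Perm Ω)} (φ : M →* alternatingGroup (Fin m)) (h : H ≤ M) :
    (res φ h).range = img φ H := by
  ext σ
  rw [mem_img]
  constructor
  · rintro ⟨x, rfl⟩
    exact ⟨⟨x, h x.2⟩, x.2, rfl⟩
  · rintro ⟨x, hx, rfl⟩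
    exact ⟨⟨x, hx⟩, rfl⟩

theorem card_img_le [Finite Ω] {M M' H : Subgroup (Perm Ω)} (hM : H ≤ M) (hM' : H ≤ M')
    (φ : M →* alternatingGroup (Fin m)) (φ' : M' →* alternatingGroup (Fin m)) (hs : IsSimpleGroup (img φ H))
    (hd : p ∣ Nat.card (img φ H)) (hk : ¬ p ∣ Nat.card φ'.ker) : Nat.card (img φ H) ≤ Nat.card (img φ' H) := by
  rw [← range_res φ hM] at hs hd
  rw [← range_res φ hM, ← range_res φ' hM']
  have h1 : ¬ p ∣ Nat.card (res φ' hM').ker := by
    intro h2
    apply hk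
    refine h2.trans ?_
    let f : (res φ' hM').ker →* φ'.ker :=
      { toFun := fun x => ⟨Subgroup.inclusion hM' x.1, by
          have h3 : res φ' hM' x.1 = 1 := x.2
          exact Subtype.ext h3⟩
        map_one' := rfl
        map_mul' := fun _ _ => rfl }
    refine Subgroup.card_dvd_of_injective f ?_
    intro x y hxy
    have h3 : Subgroup.inclusion hM' x.1 = Subgroup.inclusion hM' y.1 := congrArg Subtype.val hxy
    exact Subtype.ext (Subgroup.inclusion_injective hM' h3)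
  have h2 := le_ker (res φ hM) hs hd (res φ' hM').ker inferInstance h1
  rw [← Subgroup.index_ker, ← Subgroup.index_ker]
  exact Nat.le_of_dvd (Nat.pos_of_ne_zero Subgroup.index_ne_zero_of_finite) (Subgroup.index_dvd_of_le h2)

end img

/-! ## bad points -/

section bad

variable {Ω : Type u} {p q : ℕ} {K : Subgroup (Perm Ω)}

/-- generated by the elements of order `p` of `K` fixing `a` and `b` -/
def M2 (p : ℕ) (K : Subgroup (Perm Ω)) (a b : Ω) : Subgroup (Perm Ω) :=
  Subgroup.closure {x | x ∈ K ∧ orderOf x = p ∧ x a = a ∧ x b = b}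

/-- generated by the elements of order `p` of `K` fixing `a`, `b` and `c` -/
def M3 (p : ℕ) (K : Subgroup (Perm Ω)) (a b c : Ω) : Subgroup (Perm Ω) :=
  Subgroup.closure {x | x ∈ K ∧ orderOf x = p ∧ x a = a ∧ x b = b ∧ x c = c}

theorem M2_comm (a b : Ω) : M2 p K a b = M2 p K b a := by
  unfold M2
  congr 1
  ext x
  constructor <;> rintro ⟨h1, h2, h3, h4⟩ <;> exact ⟨h1, h2, h4, h3⟩

theorem M2_le (a b : Ω) : M2 p K a b ≤ M p K a := Subgroup.closure_mono fun _ h => ⟨h.1, h.2.1, h.2.2.1⟩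

theorem M2_le' (a b : Ω) : M2 p K a b ≤ M p K b := Subgroup.closure_mono fun _ h => ⟨h.1, h.2.1, h.2.2.2⟩

theorem M3_le_a (a b c : Ω) : M3 p K a b c ≤ M p K a := Subgroup.closure_mono fun _ h => ⟨h.1, h.2.1, h.2.2.1⟩

theorem M3_le_b (a b c : Ω) : M3 p K a b c ≤ M p K b := Subgroup.closure_mono fun _ h => ⟨h.1, h.2.1, h.2.2.2.1⟩

theorem M3_le_c (a b c : Ω) : M3 p K a b c ≤ M p K c := Subgroup.closure_mono fun _ h => ⟨h.1, h.2.1, h.2.2.2.2⟩

variable [Fintype Ω] [DecidableEq Ω]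

theorem p_ge {u : ℕ} (h : Setup p q K) (hu : 3 ≤ u) (hup : u < p) : 5 ≤ p := by
  have h1 : p ≠ 4 := by
    rintro rfl
    exact absurd h.prime (by norm_num)
  omega

/-- the kernel is a `p'`-group -/
theorem ker_coprime (h : Setup p q K) {a : Ω} {u : ℕ} (hu : 3 ≤ u) (hup : u < p)
    {φ : M p K a →* alternatingGroup (Fin (p + u))} (hφ : Function.Surjective φ) : ¬ p ∣ Nat.card φ.ker := by
  intro hk
  have hp := h.prime
  have h5 := p_ge h hu hup
  have hA : p ∣ Nat.card (alternatingGroup (Fin (p + u))) := by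
    rw [← A_empty hp (by omega) (by omega : p ≤ p + u) (by omega)]
    exact dvd_card_A hp (by omega) (by simp) (by rw [Finset.card_empty]; omega)
  have hM : p ^ 2 ∣ Nat.card (M p K a) := by
    have h3 := Subgroup.card_mul_index φ.ker
    rw [Subgroup.index_ker, MonoidHom.range_eq_top.2 hφ, Subgroup.card_top] at h3
    rw [← h3, pow_two]
    exact mul_dvd_mul hk hA
  exact h.sylow (hM.trans (Subgroup.card_dvd_of_le (M_le a)))

/-- lifting elements of order `p` of the image -/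
theorem lift_img (h : Setup p q K) {a : Ω} {m : ℕ} {φ : M p K a →* alternatingGroup (Fin m)} {H : Subgroup (Perm Ω)}
    {σ : Perm (Fin m)} (hσ : σ ∈ img φ H) (hσp : orderOf σ = p) :
    ∃ x : M p K a, (x : Perm Ω) ∈ H ∧ orderOf x = p ∧ (φ x : Perm (Fin m)) = σ := by
  obtain ⟨y, hy, rfl⟩ := mem_img.1 hσ
  have h2 : ¬ p ^ 2 ∣ Nat.card (M p K a) := fun hd => h.sylow (hd.trans (Subgroup.card_dvd_of_le (M_le a)))
  obtain ⟨n, hn1, hn2⟩ := exists_lift h.prime h2 φ y (by rw [← Subgroup.orderOf_coe]; exact hσp)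
  exact ⟨y ^ n, by rw [Subgroup.coe_pow]; exact H.pow_mem hy n, hn1, by rw [hn2]⟩

/-- the image in the good case -/
theorem img_good (h : Setup p q K) {a b : Ω} {u : ℕ} (hu : 3 ≤ u) (hup : u < p)
    {φ : M p K a →* alternatingGroup (Fin (p + u))} (hφ : Function.Surjective φ) {S : Finset (Fin (p + u))}
    (hS : ∀ x : M p K a, orderOf x = p → ((x : Perm Ω) b = b ↔ Disjoint (φ x : Perm (Fin (p + u))).support S))
    {H' H : Subgroup (Perm Ω)} (hH' : H' ≤ M p K a) (hsur : img φ H' = alternatingGroup (Fin (p + u)))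
    (hH : H = Subgroup.closure {x | x ∈ H' ∧ orderOf x = p ∧ x b = b}) : img φ H = A (p + u) p S := by
  have hp := h.prime
  have h5 := p_ge h hu hup
  apply le_antisymm
  · have h1 : H ≤ ((A (p + u) p S).comap ((alternatingGroup (Fin (p + u))).subtype.comp φ)).map (M p K a).subtype := by
      rw [hH]
      refine (Subgroup.closure_le _).2 ?_
      rintro x ⟨hx, hxp, hxb⟩
      have h2 : orderOf (⟨x, hH' hx⟩ : M p K a) = p := by rw [Subgroup.orderOf_mk, hxp]
      refine ⟨⟨x, hH' hx⟩, Subgroup.subset_closure ⟨?_, ?_⟩, rfl⟩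
      · exact Cfsg.Agent.H976.PrA.order_phi h a φ hφ _ h2
      · exact (hS _ h2).1 hxb
    intro σ hσ
    obtain ⟨x, hx, rfl⟩ := mem_img.1 hσ
    obtain ⟨y, hy, hyx⟩ := h1 hx
    have h2 : y = x := Subtype.ext hyx
    rw [← h2]
    exact hy
  · refine (Subgroup.closure_le _).2 ?_
    rintro σ ⟨hσ, hσS⟩
    have h1 : σ ∈ img φ H' := by
      rw [hsur]
      exact mem_alternatingGroup.2 (sign_of_order hp (by omega) hσ)
    obtain ⟨x, hx, hxp, hxσ⟩ := lift_img h h1 hσ
    refine mem_img.2 ⟨x, ?_, hxσ⟩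
    rw [hH]
    refine Subgroup.subset_closure ⟨hx, by rw [Subgroup.orderOf_coe, hxp], ?_⟩
    rw [hS x hxp, hxσ]
    exact hσS

omit [Fintype Ω] [DecidableEq Ω] in
theorem img_top {a : Ω} {m : ℕ} {φ : M p K a →* alternatingGroup (Fin m)}
    (hφ : Function.Surjective φ) : img φ (M p K a) = alternatingGroup (Fin m) := by
  ext σ
  rw [mem_img]
  constructor
  · rintro ⟨x, -, rfl⟩
    exact (φ x).2
  · intro hσ
    obtain ⟨x, hx⟩ := hφ ⟨σ, hσ⟩
    exact ⟨x, x.2, by rw [hx]⟩

/-- the image in the bad case -/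
theorem img_bad (h : Setup p q K) {a b : Ω} {u : ℕ} (hu : 3 ≤ u) (hup : u < p)
    {φ : M p K a →* alternatingGroup (Fin (p + u))} (hφ : Function.Surjective φ) (hbad : Bad φ b)
    (hb : ∃ y ∈ K, orderOf y = p ∧ y a = a ∧ y b = b) : img φ (M2 p K a b) = alternatingGroup (Fin (p + u)) := by
  have hp := h.prime
  have h5 := p_ge h hu hup
  have hs : IsSimpleGroup (alternatingGroup (Fin (p + u))) :=
    alternatingGroup.isSimpleGroup (by rw [Nat.card_eq_fintype_card, Fintype.card_fin]; omega)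
  set N : Subgroup (alternatingGroup (Fin (p + u))) := ((M2 p K a b).subgroupOf (M p K a)).map φ with hN
  have hNn : N.Normal := by
    refine ⟨?_⟩
    rintro _ ⟨x, hx, rfl⟩ s
    obtain ⟨y, hyb, rfl⟩ := hbad s
    refine ⟨y * x * y⁻¹, ?_, by rw [map_mul, map_mul, map_inv]⟩
    have h1 : M2 p K a b ≤ (M2 p K a b).comap (MulAut.conj (y : Perm Ω)).toMonoidHom := by
      refine (Subgroup.closure_le _).2 ?_
      rintro z ⟨hz, hzp, hza, hzb⟩
      have hya : (y : Perm Ω) a = a := M_fix y.2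
      have hya' : (y : Perm Ω)⁻¹ a = a := by rw [Perm.inv_eq_iff_eq, hya]
      have hyb' : (y : Perm Ω)⁻¹ b = b := by rw [Perm.inv_eq_iff_eq, hyb]
      refine Subgroup.subset_closure ⟨K.mul_mem (K.mul_mem (M_le a y.2) hz) (K.inv_mem (M_le a y.2)), ?_, ?_, ?_⟩
      · exact ((MulAut.conj (y : Perm Ω)).orderOf_eq z).trans hzp
      · show (y : Perm Ω) (z ((y : Perm Ω)⁻¹ a)) = a
        rw [hya', hza, hya]
      · show (y : Perm Ω) (z ((y : Perm Ω)⁻¹ b)) = b
        rw [hyb', hzb, hyb]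
    exact h1 hx
  have hNt : N ≠ ⊥ := by
    intro hbot
    obtain ⟨y, hy, hyp, hya, hyb⟩ := hb
    have hyM : y ∈ M p K a := mem_M hy hyp hya
    have h1 : orderOf (⟨y, hyM⟩ : M p K a) = p := by rw [Subgroup.orderOf_mk, hyp]
    have h2 := Cfsg.Agent.H976.PrA.order_phi h a φ hφ _ h1
    have h3 : φ ⟨y, hyM⟩ ∈ N := ⟨⟨y, hyM⟩, Subgroup.subset_closure ⟨hy, hyp, hya, hyb⟩, rfl⟩
    rw [hbot, Subgroup.mem_bot] at h3
    rw [h3, Subgroup.coe_one, orderOf_one] at h2
    exact hp.one_lt.ne h2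
  have hNtop : N = ⊤ := (hNn.eq_bot_or_eq_top).resolve_left hNt
  apply le_antisymm
  · rintro σ hσ
    obtain ⟨x, -, rfl⟩ := mem_img.1 hσ
    exact (φ x).2
  · intro σ hσ
    have h1 : (⟨σ, hσ⟩ : alternatingGroup (Fin (p + u))) ∈ N := by rw [hNtop]; trivial
    obtain ⟨x, hx, hxσ⟩ := h1
    exact mem_img.2 ⟨x, hx, by rw [hxσ]⟩

/-- not free -/
def Nfr (p : ℕ) (K : Subgroup (Perm Ω)) (a b : Ω) : Prop := ∃ y ∈ K, orderOf y = p ∧ y a = a ∧ y b = b

omit [Fintype Ω] [DecidableEq Ω] in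
theorem Nfr.symm {a b : Ω} (h : Nfr p K a b) : Nfr p K b a := by
  obtain ⟨y, h1, h2, h3, h4⟩ := h
  exact ⟨y, h1, h2, h4, h3⟩

/-- the set of a point -/
theorem exists_T (h : Setup p q K) {a b : Ω} {u : ℕ} (hu : 3 ≤ u) (hup : u < p)
    {φ : M p K a →* alternatingGroup (Fin (p + u))} (hφ : Function.Surjective φ) (hab : b ≠ a) (hb : Nfr p K a b) :
    ∃ T : Finset (Fin (p + u)), T.card ≤ 2 ∧ img φ (M2 p K a b) = A (p + u) p T ∧ (Bad φ b ↔ T.card = 0) ∧
      (¬ Bad φ b → ∀ x : M p K a, orderOf x = p →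
        ((x : Perm Ω) b = b ↔ Disjoint (φ x : Perm (Fin (p + u))).support T)) := by
  have hp := h.prime
  have h5 := p_ge h hu hup
  by_cases hbad : Bad φ b
  · refine ⟨∅, by simp, ?_, by simp [hbad], fun hn => absurd hbad hn⟩
    rw [img_bad h hu hup hφ hbad hb, A_empty hp (by omega) (by omega) (by omega)]
  · rcases Cfsg.Agent.H976.PrA.exists_S h a hu hup φ hφ b hab hb with h1 | ⟨S, h1, h2, hS⟩
    · exact absurd h1 hbad
    · refine ⟨S, h2, ?_, ⟨fun h => absurd h hbad, fun h => by omega⟩, fun _ => hS⟩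
      refine img_good h hu hup hφ hS le_rfl (img_top hφ) ?_
      unfold M2
      congr 1
      ext x
      constructor
      · rintro ⟨h1, h2, h3, h4⟩
        exact ⟨mem_M h1 h2 h3, h2, h4⟩
      · rintro ⟨h1, h2, h3⟩
        exact ⟨M_le a h1, h2, M_fix h1, h3⟩

/-- comparison of two sets -/
theorem card_eq_of (h : Setup p q K) {a a' : Ω} {u : ℕ} (hu : 3 ≤ u) (hup : u < p)
    {φ : M p K a →* alternatingGroup (Fin (p + u))} (hφ : Function.Surjective φ)
    {φ' : M p K a' →* alternatingGroup (Fin (p + u))} (hφ' : Function.Surjective φ')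
    {H : Subgroup (Perm Ω)} (h1 : H ≤ M p K a) (h2 : H ≤ M p K a') {T T' : Finset (Fin (p + u))}
    (hT : T.card ≤ 2) (hT' : T'.card ≤ 2) (hi : img φ H = A (p + u) p T) (hi' : img φ' H = A (p + u) p T') :
    T.card = T'.card := by
  have hp := h.prime
  have h5 := p_ge h hu hup
  have e1 : Nat.card (A (p + u) p T) ≤ Nat.card (A (p + u) p T') := by
    rw [← hi, ← hi']
    refine card_img_le h1 h2 φ φ' ?_ ?_ (ker_coprime h hu hup hφ')
    · rw [hi]; exact A_simple hp (by omega) (by omega) (by omega)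
    · rw [hi]; exact dvd_card_A hp (by omega) (by omega) (by omega)
  have e2 : Nat.card (A (p + u) p T') ≤ Nat.card (A (p + u) p T) := by
    rw [← hi, ← hi']
    refine card_img_le h2 h1 φ' φ ?_ ?_ (ker_coprime h hu hup hφ)
    · rw [hi']; exact A_simple hp (by omega) (by omega) (by omega)
    · rw [hi']; exact dvd_card_A hp (by omega) (by omega) (by omega)
  rcases lt_trichotomy T.card T'.card with h6 | h6 | h6
  · have := card_lt hp (by omega) (by omega : p + 3 ≤ p + u) (by omega) hT h6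
    omega
  · exact h6
  · have := card_lt hp (by omega) (by omega : p + 3 ≤ p + u) (by omega) hT' h6
    omega

/-- `Bad` does not depend on the homomorphism and is symmetric -/
theorem bad_iff (h : Setup p q K) {a b a' b' : Ω} {u : ℕ} (hu : 3 ≤ u) (hup : u < p)
    {φ : M p K a →* alternatingGroup (Fin (p + u))} (hφ : Function.Surjective φ)
    {φ' : M p K a' →* alternatingGroup (Fin (p + u))} (hφ' : Function.Surjective φ') (hab : b ≠ a)
    (hb : Nfr p K a b) (hp' : (a' = a ∧ b' = b) ∨ (a' = b ∧ b' = a)) : Bad φ b ↔ Bad φ' b' := by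
  obtain ⟨T, hT, hi, hbad, -⟩ := exists_T h hu hup hφ hab hb
  rcases hp' with ⟨rfl, rfl⟩ | ⟨rfl, rfl⟩
  · obtain ⟨T', hT', hi', hbad', -⟩ := exists_T h hu hup hφ' hab hb
    have h1 := card_eq_of h hu hup hφ hφ' (M2_le _ _) (M2_le _ _) hT hT' hi hi'
    rw [hbad, hbad', h1]
  · obtain ⟨T', hT', hi', hbad', -⟩ := exists_T h hu hup hφ' hab.symm hb.symm
    have h1 := card_eq_of h hu hup hφ hφ' (M2_le _ _) (M2_le' _ _) hT hT' hi (by rw [M2_comm]; exact hi')
    rw [hbad, hbad', h1]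

/-- conjugation by `k` -/
def cjM (k : Perm Ω) (hk : k ∈ K) (a : Ω) : M p K (k a) →* M p K a where
  toFun x := ⟨k⁻¹ * x * k, by
    have h1 := conj_mem_M (K.inv_mem hk) x.2
    rw [inv_inv, inv_self'] at h1
    exact h1⟩
  map_one' := Subtype.ext (by show k⁻¹ * 1 * k = 1; group)
  map_mul' x y := Subtype.ext (by
    show k⁻¹ * (x * y) * k = k⁻¹ * x * k * (k⁻¹ * y * k)
    group)

omit [Fintype Ω] [DecidableEq Ω] in
theorem cjM_surj (k : Perm Ω) (hk : k ∈ K) (a : Ω) (y : M p K a) : ∃ x : M p K (k a), cjM k hk a x = y ∧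
    (x : Perm Ω) = k * y * k⁻¹ := by
  refine ⟨⟨k * y * k⁻¹, conj_mem_M hk y.2⟩, Subtype.ext ?_, rfl⟩
  show k⁻¹ * (k * y * k⁻¹) * k = y
  group

omit [Fintype Ω] [DecidableEq Ω] in
theorem Nfr.conj {a b : Ω} (h : Nfr p K a b) {k : Perm Ω} (hk : k ∈ K) : Nfr p K (k a) (k b) := by
  obtain ⟨y, h1, h2, h3, h4⟩ := h
  refine ⟨k * y * k⁻¹, K.mul_mem (K.mul_mem hk h1) (K.inv_mem hk), ((MulAut.conj k).orderOf_eq y).trans h2, ?_, ?_⟩
  · show k (y (k⁻¹ (k a))) = k a
    rw [inv_self', h3]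
  · show k (y (k⁻¹ (k b))) = k b
    rw [inv_self', h4]

omit [Fintype Ω] [DecidableEq Ω] in
theorem bad_conj {a b : Ω} {m : ℕ} {φ : M p K a →* alternatingGroup (Fin m)} (h : Bad φ b) {k : Perm Ω} (hk : k ∈ K) :
    Bad (φ.comp (cjM k hk a)) (k b) := by
  intro s
  obtain ⟨y, hyb, hys⟩ := h s
  obtain ⟨x, hx1, hx2⟩ := cjM_surj k hk a y
  refine ⟨x, ?_, by rw [MonoidHom.comp_apply, hx1, hys]⟩
  rw [hx2]
  show k ((y : Perm Ω) (k⁻¹ (k b))) = k b
  rw [inv_self', hyb]

/-- `b` is bad for `a` -/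
def Rb (p u : ℕ) (K : Subgroup (Perm Ω)) (a b : Ω) : Prop :=
  b ≠ a ∧ Nfr p K a b ∧ ∃ φ : M p K a →* alternatingGroup (Fin (p + u)), Function.Surjective φ ∧ Bad φ b

/-- `b` is good for `a` -/
def Rg (p u : ℕ) (K : Subgroup (Perm Ω)) (a b : Ω) : Prop :=
  b ≠ a ∧ Nfr p K a b ∧ ∃ φ : M p K a →* alternatingGroup (Fin (p + u)), Function.Surjective φ ∧ ¬ Bad φ b

section fam

variable {u : ℕ} (h : Setup p q K) (hu : 3 ≤ u) (hup : u < p)
  (hall : ∀ c : Ω, ∃ φ : M p K c →* alternatingGroup (Fin (p + u)), Function.Surjective φ)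
include h hu hup hall

theorem Rb.symm {a b : Ω} (hr : Rb p u K a b) : Rb p u K b a := by
  obtain ⟨hab, hn, φ, hφ, hb⟩ := hr
  obtain ⟨φ', hφ'⟩ := hall b
  exact ⟨hab.symm, hn.symm, φ', hφ', (bad_iff h hu hup hφ hφ' hab hn (Or.inr ⟨rfl, rfl⟩)).1 hb⟩

theorem Rg.symm {a b : Ω} (hr : Rg p u K a b) : Rg p u K b a := by
  obtain ⟨hab, hn, φ, hφ, hb⟩ := hr
  obtain ⟨φ', hφ'⟩ := hall b
  exact ⟨hab.symm, hn.symm, φ', hφ', fun hc => hb ((bad_iff h hu hup hφ hφ' hab hn (Or.inr ⟨rfl, rfl⟩)).2 hc)⟩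

omit hall in
theorem Rb.bad {a b : Ω} (hr : Rb p u K a b) {φ : M p K a →* alternatingGroup (Fin (p + u))}
    (hφ : Function.Surjective φ) : Bad φ b := by
  obtain ⟨hab, hn, φ', hφ', hb⟩ := hr
  exact (bad_iff h hu hup hφ' hφ hab hn (Or.inl ⟨rfl, rfl⟩)).1 hb

omit hall in
theorem Rg.not_bad {a b : Ω} (hr : Rg p u K a b) {φ : M p K a →* alternatingGroup (Fin (p + u))}
    (hφ : Function.Surjective φ) : ¬ Bad φ b := by
  obtain ⟨hab, hn, φ', hφ', hb⟩ := hr
  exact fun hc => hb ((bad_iff h hu hup hφ' hφ hab hn (Or.inl ⟨rfl, rfl⟩)).2 hc)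

omit hall in
theorem Rg.conj {a b : Ω} (hr : Rg p u K a b) {k : Perm Ω} (hk : k ∈ K) : Rg p u K (k a) (k b) := by
  have hr' := hr
  obtain ⟨hab, hn, φ, hφ, hb⟩ := hr
  refine ⟨fun hc => hab (k.injective hc), hn.conj hk, φ.comp (cjM k hk a), ?_, ?_⟩
  · intro s
    obtain ⟨y, hy⟩ := hφ s
    obtain ⟨x, hx, -⟩ := cjM_surj k hk a y
    exact ⟨x, by rw [MonoidHom.comp_apply, hx, hy]⟩
  · intro hc
    apply hb
    intro s
    obtain ⟨y, hyb, hys⟩ := hc s
    refine ⟨cjM k hk a y, ?_, hys⟩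
    show k⁻¹ ((y : Perm Ω) (k b)) = b
    rw [hyb, inv_self']

/-- **the main step** -/
theorem step {a b c : Ω} (hac : Rb p u K a c) (hab : Rg p u K a b) : Rb p u K c b := by
  have hp := h.prime
  have h5 := p_ge h hu hup
  obtain ⟨φa, hφa⟩ := hall a
  obtain ⟨φb, hφb⟩ := hall b
  obtain ⟨φc, hφc⟩ := hall c
  have hbadc := hac.bad h hu hup hφa
  have hgoodb := hab.not_bad h hu hup hφa
  obtain ⟨S, hS, hiS, hS0, hSf⟩ := exists_T h hu hup hφa hab.1 hab.2.1
  replace hSf := hSf hgoodb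
  have hAc := img_bad h hu hup hφa hbadc hac.2.1
  have hbc : b ≠ c := by
    rintro rfl
    exact hgoodb hbadc
  -- an element of order `p` fixing `a`, `b`, `c`
  obtain ⟨x0, hx0, hx0p, hx0a, hx0b⟩ := hab.2.1
  have hx0M : x0 ∈ M p K a := mem_M hx0 hx0p hx0a
  have hx0o : orderOf (⟨x0, hx0M⟩ : M p K a) = p := by rw [Subgroup.orderOf_mk, hx0p]
  have hx0d := (hSf _ hx0o).1 hx0b
  have hx0i : (φa ⟨x0, hx0M⟩ : Perm (Fin (p + u))) ∈ img φa (M2 p K a c) := by
    rw [hAc]; exact (φa ⟨x0, hx0M⟩).2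
  obtain ⟨z, hz, hzp, hzφ⟩ := lift_img h hx0i (Cfsg.Agent.H976.PrA.order_phi h a φa hφa _ hx0o)
  have hzb : (z : Perm Ω) b = b := by
    rw [hSf z hzp, hzφ]; exact hx0d
  have hfixc : ∀ y ∈ M2 p K a c, (y : Perm Ω) c = c := fun y hy => M_fix (M2_le' a c hy)
  have hnbc : Nfr p K c b := ⟨z, M_le a z.2, by rw [Subgroup.orderOf_coe, hzp], hfixc _ hz, hzb⟩
  by_contra hcon
  have hgb : ¬ Bad φc b := fun hc => hcon ⟨hbc, hnbc, φc, hφc, hc⟩
  obtain ⟨S', hS', hiS', hS0', hSf'⟩ := exists_T h hu hup hφc hbc hnbc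
  replace hSf' := hSf' hgb
  have hca : Bad φc a := (hac.symm h hu hup hall).bad h hu hup hφc
  have hAa := img_bad h hu hup hφc hca hac.2.1.symm
  -- the images of `M3`
  have i1 : img φa (M3 p K a b c) = A (p + u) p S := by
    refine img_good h hu hup hφa hSf (M2_le a c) hAc ?_
    unfold M3
    congr 1
    ext x
    constructor
    · rintro ⟨h1, h2, h3, h4, h5⟩
      exact ⟨Subgroup.subset_closure ⟨h1, h2, h3, h5⟩, h2, h4⟩
    · rintro ⟨h1, h2, h3⟩
      exact ⟨M_le a (M2_le a c h1), h2, M_fix (M2_le a c h1), h3, M_fix (M2_le' a c h1)⟩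
  have i2 : img φc (M3 p K a b c) = A (p + u) p S' := by
    refine img_good h hu hup hφc hSf' (M2_le c a) hAa ?_
    unfold M3
    congr 1
    ext x
    constructor
    · rintro ⟨h1, h2, h3, h4, h5⟩
      exact ⟨Subgroup.subset_closure ⟨h1, h2, h5, h3⟩, h2, h4⟩
    · rintro ⟨h1, h2, h3⟩
      exact ⟨M_le c (M2_le c a h1), h2, M_fix (M2_le' c a h1), h3, M_fix (M2_le c a h1)⟩
  have hSS' : S.card = S'.card := card_eq_of h hu hup hφa hφc (M3_le_a a b c) (M3_le_c a b c) hS hS' i1 i2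
  -- the sets at `b`
  obtain ⟨S1, hS1, hi1, h01, hf1⟩ := exists_T h hu hup hφb hab.1.symm hab.2.1.symm
  obtain ⟨S2, hS2, hi2, h02, hf2⟩ := exists_T h hu hup hφb hbc.symm hnbc.symm
  have e1 : S.card = S1.card := card_eq_of h hu hup hφa hφb (M2_le a b) (M2_le' a b) hS hS1 hiS
    (by rw [M2_comm]; exact hi1)
  have e2 : S'.card = S2.card := card_eq_of h hu hup hφc hφb (M2_le c b) (M2_le' c b) hS' hS2 hiS'
    (by rw [M2_comm]; exact hi2)
  have hSpos : S.card ≠ 0 := fun h0 => hgoodb (hS0.2 h0)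
  have g1 : ¬ Bad φb a := fun hc => hSpos (by rw [e1]; exact h01.1 hc)
  have g2 : ¬ Bad φb c := fun hc => hSpos (by rw [hSS', e2]; exact h02.1 hc)
  replace hf1 := hf1 g1
  replace hf2 := hf2 g2
  have i3 : img φb (M3 p K a b c) ≤ A (p + u) p (S1 ∪ S2) := by
    have h1 : M3 p K a b c ≤
        ((A (p + u) p (S1 ∪ S2)).comap ((alternatingGroup (Fin (p + u))).subtype.comp φb)).map (M p K b).subtype := by
      refine (Subgroup.closure_le _).2 ?_
      rintro x ⟨hx, hxp, hxa, hxb, hxc⟩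
      have hxM : x ∈ M p K b := mem_M hx hxp hxb
      have h2 : orderOf (⟨x, hxM⟩ : M p K b) = p := by rw [Subgroup.orderOf_mk, hxp]
      refine ⟨⟨x, hxM⟩, Subgroup.subset_closure ⟨?_, ?_⟩, rfl⟩
      · exact Cfsg.Agent.H976.PrA.order_phi h b φb hφb _ h2
      · exact Finset.disjoint_union_right.2 ⟨(hf1 _ h2).1 hxa, (hf2 _ h2).1 hxc⟩
    intro σ hσ
    obtain ⟨x, hx, rfl⟩ := mem_img.1 hσ
    obtain ⟨y, hy, hyx⟩ := h1 hx
    have h2 : y = x := Subtype.ext hyx
    rw [← h2]
    exact hy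
  have hcard : Nat.card (A (p + u) p S) ≤ Nat.card (A (p + u) p (S1 ∪ S2)) := by
    have h1 : Nat.card (img φa (M3 p K a b c)) ≤ Nat.card (img φb (M3 p K a b c)) := by
      refine card_img_le (M3_le_a a b c) (M3_le_b a b c) φa φb ?_ ?_ (ker_coprime h hu hup hφb)
      · rw [i1]; exact A_simple hp (by omega) (by omega) (by omega)
      · rw [i1]; exact dvd_card_A hp (by omega) (by omega) (by omega)
    rw [i1] at h1
    exact h1.trans (Nat.card_le_card_of_injective _ (Subgroup.inclusion_injective i3))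
  have hU : (S1 ∪ S2).card ≤ S.card := by
    by_contra hlt
    have := card_lt hp (by omega) (by omega : p + 3 ≤ p + u) (by omega) hS (not_le.1 hlt)
    omega
  have hS12 : S1 = S2 := by
    have h1 : S1 = S1 ∪ S2 := Finset.eq_of_subset_of_card_le Finset.subset_union_left (by omega)
    have h2 : S2 = S1 ∪ S2 := Finset.eq_of_subset_of_card_le Finset.subset_union_right (by omega)
    rw [h1, ← h2]
  -- elements of order `p` fixing `a` and `b` fix `c`
  have key : ∀ x : Perm Ω, x ∈ K → orderOf x = p → x a = a → x b = b → x c = c := by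
    intro x hx hxp hxa hxb
    have hxM : x ∈ M p K b := mem_M hx hxp hxb
    have h2 : orderOf (⟨x, hxM⟩ : M p K b) = p := by rw [Subgroup.orderOf_mk, hxp]
    have h3 := (hf1 _ h2).1 hxa
    rw [hS12] at h3
    exact (hf2 _ h2).2 h3
  -- the contradiction
  obtain ⟨m, hm, hmc⟩ := h.exists_orbit_move a c hac.1 x0 hx0 hx0p hx0a
  obtain ⟨y, hyc, hyφ⟩ := hbadc (φa ⟨m, hm⟩)
  apply hmc
  set k : M p K a := ⟨m, hm⟩ * y⁻¹ with hk
  have hkφ : φa k = 1 := by rw [hk, map_mul, map_inv, hyφ, mul_inv_cancel]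
  have hkc : (k : Perm Ω) c = m c := by
    show m ((y : Perm Ω)⁻¹ c) = m c
    rw [Perm.inv_eq_iff_eq.2 hyc.symm]
  set w : M p K a := k⁻¹ * ⟨x0, hx0M⟩ * k with hw
  have hwo : orderOf w = p := by
    have h1 := (MulAut.conj k⁻¹).orderOf_eq (⟨x0, hx0M⟩ : M p K a)
    rw [MulAut.conj_apply, inv_inv] at h1
    exact h1.trans hx0o
  have hwφ : φa w = φa ⟨x0, hx0M⟩ := by rw [hw, map_mul, map_mul, map_inv, hkφ, inv_one, one_mul, mul_one]
  have hwb : (w : Perm Ω) b = b := by
    rw [hSf w hwo, hwφ]; exact hx0d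
  have hwc : (w : Perm Ω) c = c := key w (M_le a w.2) (by rw [Subgroup.orderOf_coe, hwo]) (M_fix w.2) hwb
  have h1 : (k : Perm Ω)⁻¹ (x0 ((k : Perm Ω) c)) = c := hwc
  rw [Perm.inv_eq_iff_eq, hkc] at h1
  exact h1

end fam

/-- **there are no bad points** -/
theorem no_bad (h : Setup p q K) (a : Ω) {u : ℕ} (hu : 3 ≤ u) (hup : u < p)
    (φ : M p K a →* alternatingGroup (Fin (p + u))) (hφ : Function.Surjective φ)
    (hgood : ∃ b : Ω, b ≠ a ∧ (∃ y ∈ K, orderOf y = p ∧ y a = a ∧ y b = b) ∧ ¬ Bad φ b)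
    (b : Ω) (hab : b ≠ a) (hb : ∃ y ∈ K, orderOf y = p ∧ y a = a ∧ y b = b) : ¬ Bad φ b := by
  intro hbad
  have htr : IsPretransitive K Ω := h.prim.toIsPretransitive
  have hall : ∀ c : Ω, ∃ φ : M p K c →* alternatingGroup (Fin (p + u)), Function.Surjective φ := by
    intro c
    obtain ⟨k, hk⟩ := MulAction.exists_smul_eq K a c
    have hk' : (k : Perm Ω) a = c := hk
    subst hk'
    refine ⟨φ.comp (cjM (k : Perm Ω) k.2 a), ?_⟩
    intro s
    obtain ⟨y, hy⟩ := hφ s
    obtain ⟨x, hx, -⟩ := cjM_surj (k : Perm Ω) k.2 a y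
    exact ⟨x, by rw [MonoidHom.comp_apply, hx, hy]⟩
  obtain ⟨b0, hb0, hnb0, hgb0⟩ := hgood
  have hg : Rg p u K a b0 := ⟨hb0, hnb0, φ, hφ, hgb0⟩
  have hR : Rb p u K a b := ⟨hab, hb, φ, hφ, hbad⟩
  -- the component of `a`
  let B : Set Ω := {y | Relation.ReflTransGen (Rg p u K) a y}
  have hsymm : ∀ x y, Relation.ReflTransGen (Rg p u K) x y → Relation.ReflTransGen (Rg p u K) y x := by
    intro x y hxy
    induction hxy with
    | refl => exact Relation.ReflTransGen.refl
    | tail _ h2 ih => exact Relation.ReflTransGen.head (h2.symm h hu hup hall) ih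
  have hconj : ∀ k ∈ K, ∀ x y, Relation.ReflTransGen (Rg p u K) x y →
      Relation.ReflTransGen (Rg p u K) (k x) (k y) := by
    intro k hk x y hxy
    induction hxy with
    | refl => exact Relation.ReflTransGen.refl
    | tail _ h2 ih => exact ih.tail (h2.conj h hu hup hk)
  have hB : IsBlock K B := by
    rw [isBlock_iff_smul_eq_of_mem]
    intro g c hc hgc
    have h1 : Relation.ReflTransGen (Rg p u K) a ((g : Perm Ω) a) := by
      have h2 : Relation.ReflTransGen (Rg p u K) ((g : Perm Ω) a) ((g : Perm Ω) c) := hconj g g.2 _ _ hc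
      exact Relation.ReflTransGen.trans hgc (hsymm _ _ h2)
    ext y
    constructor
    · rintro ⟨z, hz, rfl⟩
      exact h1.trans (hconj g g.2 _ _ hz)
    · intro hy
      refine ⟨(g : Perm Ω)⁻¹ y, ?_, ?_⟩
      · have h3 := hconj (g : Perm Ω)⁻¹ (K.inv_mem g.2) _ _ ((hsymm _ _ h1).trans hy)
        rw [inv_self'] at h3
        exact h3
      · exact self_inv' _ _
  have hBu : B = Set.univ := by
    rcases h.prim.isTrivialBlock_of_isBlock hB with h1 | h1
    · exfalso
      exact hb0 (h1 (Relation.ReflTransGen.single hg) Relation.ReflTransGen.refl)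
    · exact h1
  have hX : ∀ y, Relation.ReflTransGen (Rg p u K) a y → Rb p u K b y := by
    intro y hy
    induction hy with
    | refl => exact hR.symm h hu hup hall
    | tail _ h2 ih => exact step h hu hup hall (ih.symm h hu hup hall) h2
  have h1 : b ∈ B := by rw [hBu]; trivial
  exact (hX b h1).1 rfl

end bad

end Cfsg.Agent.H273.PrA
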